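import Mathlib
import Cfsg.Agent.H989.Fx.OmF

/-!
# S5719, orthogonal groups, `q` odd: pairs of Siegel elements (helper170)

`pair` : two Siegel elements `S Q x y`, `S Q x' y'` (long or short) generate a `p`-group, or the group generated by them
contains an involution `z` with `(z - 1) V ≤ ⟨x, y, x', y'⟩`.
-/

set_option autoImplicit false
set_option maxHeartbeats 400000
set_option linter.unusedSimpArgs false
set_option linter.unusedVariables false
set_option linter.unusedSectionVars false

namespace Cfsg.Agent.H170.IF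

open QuadraticMap Cfsg.Agent.LieClassical Cfsg.Agent.LieClassical.OrthCore Cfsg.Agent.LieClassical.OrthTrans
  Cfsg.Agent.LieClassical.OrthSimple Cfsg.Agent.AutOrth.SemiSim Cfsg.Agent.AutOrth.Gen
  Cfsg.Agent.H989.Gs.Gen Cfsg.Agent.H989.Fx
open Cfsg.Agent.LieClassical.SLTwoUnipotent (u l coe_u coe_l)
open Matrix (SpecialLinearGroup)

/-! ### `SL₂` -/

section SL

variable {K : Type*} [Field K]

theorem neg_one_of_sq (h2 : (2 : K) ≠ 0) (k : SpecialLinearGroup (Fin 2) K) (hk2 : k * k = 1) (hk1 : k ≠ 1) :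
    k.1 = -1 := by
  set M := k.1 with hM
  have hMM : M * M = 1 := congrArg Subtype.val hk2
  have hdet : M 0 0 * M 1 1 - M 0 1 * M 1 0 = 1 := by
    have := k.2
    rwa [Matrix.det_fin_two] at this
  have e00 : M 0 0 * M 0 0 + M 0 1 * M 1 0 = 1 := by
    have := congrFun (congrFun hMM 0) 0
    simpa [Matrix.mul_apply, Fin.sum_univ_two] using this
  have e01 : M 0 0 * M 0 1 + M 0 1 * M 1 1 = 0 := by
    have := congrFun (congrFun hMM 0) 1
    simpa [Matrix.mul_apply, Fin.sum_univ_two] using this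
  have e10 : M 1 0 * M 0 0 + M 1 1 * M 1 0 = 0 := by
    have := congrFun (congrFun hMM 1) 0
    simpa [Matrix.mul_apply, Fin.sum_univ_two] using this
  have e11 : M 1 0 * M 0 1 + M 1 1 * M 1 1 = 1 := by
    have := congrFun (congrFun hMM 1) 1
    simpa [Matrix.mul_apply, Fin.sum_univ_two] using this
  have t0 : M 0 0 * (M 0 0 + M 1 1) = 2 := by linear_combination e00 + hdet
  have t1 : M 1 1 * (M 0 0 + M 1 1) = 2 := by linear_combination e11 + hdet
  have ht : M 0 0 + M 1 1 ≠ 0 := by
    intro h0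
    rw [h0, mul_zero] at t0
    exact h2 t0.symm
  have m01 : M 0 1 = 0 := (mul_eq_zero.1 (show M 0 1 * (M 0 0 + M 1 1) = 0 by linear_combination e01)).resolve_right ht
  have m10 : M 1 0 = 0 := (mul_eq_zero.1 (show M 1 0 * (M 0 0 + M 1 1) = 0 by linear_combination e10)).resolve_right ht
  have m0011 : M 0 0 = M 1 1 := mul_right_cancel₀ ht (t0.trans t1.symm)
  rw [m01, zero_mul, add_zero] at e00
  have m00 : M 0 0 = -1 := by
    rcases mul_self_eq_one_iff.1 e00 with h5 | h5
    · exfalso
      apply hk1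
      apply Subtype.ext
      change M = 1
      ext i j
      fin_cases i <;> fin_cases j
      · simpa using h5
      · simpa using m01
      · simpa using m10
      · simpa using (m0011 ▸ h5)
    · exact h5
  ext i j
  fin_cases i <;> fin_cases j
  · simpa using m00
  · simpa using m01
  · simpa using m10
  · simpa using (m0011 ▸ m00)

/-- two unipotent elements of `SL₂` with different fixed points generate an element of order 4 -/
theorem exists_sq_neg_one [Finite K] (h2 : (2 : K) ≠ 0) {H : Subgroup (SpecialLinearGroup (Fin 2) K)} {a c : K}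
    (ha : a ≠ 0) (hc : c ≠ 0) (h1 : u a ∈ H) (h3 : l c ∈ H) : ∃ A ∈ H, (A * A).1 = -1 := by
  cases nonempty_fintype K
  obtain ⟨p, hp⟩ := CharP.exists K
  have hpp : Fact p.Prime := ⟨CharP.char_is_prime K p⟩
  have hp2 : p ≠ 2 := by
    rintro rfl
    exact h2 (by exact_mod_cast CharP.cast_eq_zero K 2)
  have hupow : ∀ n : ℕ, (u a : SpecialLinearGroup (Fin 2) K) ^ n = u (n * a) := by
    intro n
    induction n with
    | zero => rw [pow_zero, Nat.cast_zero, zero_mul, SLTwoUnipotent.u_zero]
    | succ n ih => rw [pow_succ, ih, ← SLTwoUnipotent.u_add, Nat.cast_succ, add_mul, one_mul]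
  have hlpow : ∀ n : ℕ, (l c : SpecialLinearGroup (Fin 2) K) ^ n = l (n * c) := by
    intro n
    induction n with
    | zero => rw [pow_zero, Nat.cast_zero, zero_mul, SLTwoUnipotent.l_zero]
    | succ n ih => rw [pow_succ, ih, ← SLTwoUnipotent.l_add, Nat.cast_succ, add_mul, one_mul]
  have hsyl : 1 < Nat.card (Sylow p H) := by
    by_contra hcon
    have hcard : Nat.card (Sylow p H) = 1 := by
      have : 0 < Nat.card (Sylow p H) := Nat.card_pos
      omega
    have hsub : Subsingleton (Sylow p H) := (Nat.card_eq_one_iff_unique.1 hcard).1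
    obtain ⟨P⟩ : Nonempty (Sylow p H) := Sylow.nonempty
    have hmem : ∀ x : H, x ^ p = 1 → x ∈ P := by
      intro x hx
      have h4 : IsPGroup p (Subgroup.zpowers x) := by
        apply IsPGroup.iff_card.2
        rw [Nat.card_zpowers]
        exact (Nat.dvd_prime_pow hpp.out).1 (by rw [pow_one]; exact orderOf_dvd_of_pow_eq_one hx) |>.imp fun k hk => hk.2
      obtain ⟨P', hP'⟩ := h4.exists_le_sylow
      rw [Subsingleton.elim P P']
      exact hP' (Subgroup.mem_zpowers x)
    have hu : (⟨u a, h1⟩ : H) ∈ P := hmem _ (Subtype.ext (by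
      change (u a : SpecialLinearGroup (Fin 2) K) ^ p = 1
      rw [hupow, CharP.cast_eq_zero, zero_mul, SLTwoUnipotent.u_zero]))
    have hl : (⟨l c, h3⟩ : H) ∈ P := hmem _ (Subtype.ext (by
      change (l c : SpecialLinearGroup (Fin 2) K) ^ p = 1
      rw [hlpow, CharP.cast_eq_zero, zero_mul, SLTwoUnipotent.l_zero]))
    have hul := P.mul_mem hu hl
    obtain ⟨n, hn⟩ := P.isPGroup' ⟨_, hul⟩
    have h5 : (u a * l c : SpecialLinearGroup (Fin 2) K) ^ p ^ n = 1 := by
      have := congrArg (fun x => ((x : P) : H)) hn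
      have := congrArg Subtype.val this
      simpa using this
    have h6 := coe_one_sub h5
    have h7 : (u a * l c : SpecialLinearGroup (Fin 2) K).1.trace = 2 + a * c := by
      rw [SLTwoUnipotent.coe_mul, coe_u, coe_l, Matrix.trace_fin_two]
      simp [Matrix.mul_apply, Fin.sum_univ_two]
      ring
    rw [h7] at h6
    exact mul_ne_zero ha hc (by linear_combination h6)
  obtain ⟨K', hK, ⟨φ⟩⟩ := DicksonWeak.exists_subgroup_equiv p hp2 H hsyl
  let j : SpecialLinearGroup (Fin 2) (ZMod p) := ⟨-1, by simp [Matrix.det_neg]⟩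
  let w : SpecialLinearGroup (Fin 2) (ZMod p) := ⟨!![0, 1; -1, 0], by simp [Matrix.det_fin_two]⟩
  have hw : w * w = j := Subtype.ext (by
    change (!![0, 1; -1, 0] : Matrix (Fin 2) (Fin 2) (ZMod p)) * !![0, 1; -1, 0] = -1
    ext i k
    fin_cases i <;> fin_cases k <;> simp [Matrix.mul_apply, Fin.sum_univ_two])
  have hj2 : j * j = 1 := Subtype.ext (by change (-1 : Matrix (Fin 2) (Fin 2) (ZMod p)) * -1 = 1; simp)
  have hj1 : j ≠ 1 := by
    intro h4
    have h5 := congrArg (fun x : SpecialLinearGroup (Fin 2) (ZMod p) => x.1 0 0) h4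
    have h6 : (-1 : ZMod p) = 1 := by simpa [j] using h5
    have h7 : (2 : ZMod p) = 0 := by linear_combination -h6
    have h8 : (p : ℕ) ∣ 2 := (ZMod.natCast_eq_zero_iff 2 p).1 (by exact_mod_cast h7)
    exact hp2 ((Nat.prime_dvd_prime_iff_eq hpp.out Nat.prime_two).1 h8)
  set k := (φ.symm w : K') with hk
  have hkk : k * k = φ.symm j := by rw [hk, ← map_mul, hw]
  refine ⟨k, hK k.2, ?_⟩
  apply neg_one_of_sq h2
  · have h5 : (k * k) * (k * k) = 1 := by rw [hkk, ← map_mul, hj2, map_one]
    have h6 := congrArg Subtype.val h5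
    exact h6
  · intro h4
    apply hj1
    have h5 : k * k = 1 := Subtype.ext h4
    rw [hkk, map_eq_one_iff _ φ.symm.injective] at h5
    exact h5

end SL

/-! ### Even order -/

/-- an element of even order gives an involution -/
theorem exists_invol {G : Type*} [Group G] {H : Subgroup G} {g : G} (hg : g ∈ H) (hfin : IsOfFinOrder g)
    (h : ∀ n : ℕ, Odd n → g ^ n ≠ 1) : ∃ z ∈ H, z * z = 1 ∧ z ≠ 1 := by
  have h0 : 0 < orderOf g := hfin.orderOf_pos
  have heven : Even (orderOf g) := by
    rw [← Nat.not_odd_iff_even]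
    intro hodd
    exact h _ hodd (pow_orderOf_eq_one g)
  obtain ⟨k, hk⟩ := heven
  refine ⟨g ^ k, H.pow_mem hg k, ?_, ?_⟩
  · rw [← pow_add, ← hk, pow_orderOf_eq_one]
  · intro h1
    have h2 := orderOf_dvd_of_pow_eq_one h1
    have h3 := Nat.le_of_dvd (by omega) h2
    omega

variable {F V : Type*} [Field F] [AddCommGroup V] [Module F V] {Q : QuadraticForm F V}

/-! ### The plane case -/

/-- pairs of a matrix and an element acting by it on the plane `⟨a, b⟩` -/
def plD (Q : QuadraticForm F V) (x y : V) : Subgroup (SpecialLinearGroup (Fin 2) F × ↥(E Q)) where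
  carrier := {p | ap p.2 x = p.1.1 0 0 • x + p.1.1 1 0 • y ∧ ap p.2 y = p.1.1 0 1 • x + p.1.1 1 1 • y}
  one_mem' := by
    constructor
    · change ap 1 x = (1 : Matrix (Fin 2) (Fin 2) F) 0 0 • x + (1 : Matrix (Fin 2) (Fin 2) F) 1 0 • y
      rw [ap_one]
      simp
    · change ap 1 y = (1 : Matrix (Fin 2) (Fin 2) F) 0 1 • x + (1 : Matrix (Fin 2) (Fin 2) F) 1 1 • y
      rw [ap_one]
      simp
  mul_mem' := by
    rintro ⟨A, g⟩ ⟨B, h⟩ ⟨h1, h2⟩ ⟨h3, h4⟩
    have e : ∀ i j, (A * B).1 i j = A.1 i 0 * B.1 0 j + A.1 i 1 * B.1 1 j := fun i j => by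
      change (A.1 * B.1) i j = _
      rw [Matrix.mul_apply, Fin.sum_univ_two]
    simp only at h1 h2 h3 h4
    constructor
    · change ap (g * h) x = (A * B).1 0 0 • x + (A * B).1 1 0 • y
      rw [ap_mul, h3, ap_add, ap_smul, ap_smul, h1, h2, e, e]
      module
    · change ap (g * h) y = (A * B).1 0 1 • x + (A * B).1 1 1 • y
      rw [ap_mul, h4, ap_add, ap_smul, ap_smul, h1, h2, e, e]
      module
  inv_mem' := by
    rintro ⟨A, g⟩ ⟨h1, h2⟩
    simp only at h1 h2
    have hd : A.1 0 0 * A.1 1 1 - A.1 0 1 * A.1 1 0 = 1 := by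
      have := A.2
      rwa [Matrix.det_fin_two] at this
    have e : (A⁻¹).1 = !![A.1 1 1, -A.1 0 1; -A.1 1 0, A.1 0 0] := by
      rw [Matrix.SpecialLinearGroup.SL2_inv_expl]
      rfl
    constructor
    · change ap g⁻¹ x = (A⁻¹).1 0 0 • x + (A⁻¹).1 1 0 • y
      apply ap_inv_of
      rw [e, ap_add, ap_smul, ap_smul, h1, h2]
      simp only [Matrix.of_apply, Matrix.cons_val', Matrix.cons_val_zero, Matrix.cons_val_one, Matrix.cons_val_fin_one]
      have : x = (A.1 0 0 * A.1 1 1 - A.1 0 1 * A.1 1 0) • x := by rw [hd, one_smul]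
      conv_rhs => rw [this]
      module
    · change ap g⁻¹ y = (A⁻¹).1 0 1 • x + (A⁻¹).1 1 1 • y
      apply ap_inv_of
      rw [e, ap_add, ap_smul, ap_smul, h1, h2]
      simp only [Matrix.of_apply, Matrix.cons_val', Matrix.cons_val_zero, Matrix.cons_val_one, Matrix.cons_val_fin_one]
      have : y = (A.1 0 0 * A.1 1 1 - A.1 0 1 * A.1 1 0) • y := by rw [hd, one_smul]
      conv_rhs => rw [this]
      module

/-- the projections of `closure {(A, g), (B, h)}` -/
theorem closure_fst {G H : Type*} [Group G] [Group H] {A B : G} {g h : H} {C : Subgroup (G × H)}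
    (hC : C = Subgroup.closure {(A, g), (B, h)}) : (∀ p ∈ C, p.2 ∈ Subgroup.closure {g, h}) ∧
    (∀ a ∈ Subgroup.closure {A, B}, ∃ p ∈ C, p.1 = a) := by
  constructor
  · intro p hp
    have h1 : C.map (MonoidHom.snd G H) = Subgroup.closure {g, h} := by
      rw [hC, MonoidHom.map_closure, Set.image_pair]
      rfl
    rw [← h1]
    exact ⟨p, hp, rfl⟩
  · intro a ha
    have h1 : C.map (MonoidHom.fst G H) = Subgroup.closure {A, B} := by
      rw [hC, MonoidHom.map_closure, Set.image_pair]
      rfl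
    rw [← h1] at ha
    exact ha

variable {p : ℕ} [Fact p.Prime] [CharP F p]

/-- **orthogonal centres** -/
theorem pair_orth [Finite F] [Finite V] (h2 : (2 : F) ≠ 0) {x y x' y' : V} (hx : Q x = 0) (hxy : polar Q x y = 0)
    (hx' : Q x' = 0) (hxy' : polar Q x' y' = 0) (hxx : polar Q x x' = 0) :
    IsPGroup p (Subgroup.closure {S Q x y, S Q x' y'} : Subgroup ↥(E Q)) ∨
      ∃ z ∈ (Subgroup.closure {S Q x y, S Q x' y'} : Subgroup ↥(E Q)), z * z = 1 ∧ z ≠ 1 := by
  have hfE : Finite ↥(E Q) := finite_E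
  by_cases h3 : polar Q x y' = 0
  · left
    refine lr_deg hx hxy rfl (S_pow_char hx' hxy') ?_
    exact S_fix hx' hxy' (by rw [polar_comm]; exact hxx) (by rw [polar_comm]; exact h3)
  by_cases h4 : polar Q x' y = 0
  · left
    rw [Set.pair_comm]
    refine lr_deg hx' hxy' rfl (S_pow_char hx hxy) ?_
    exact S_fix hx hxy hxx (by rw [polar_comm]; exact h4)
  right
  -- `S x y : x ↦ x, x' ↦ x' - b(y, x') x`
  set α := polar Q y x' with hα
  set β := polar Q y' x with hβ
  have hα0 : α ≠ 0 := by rw [hα, polar_comm]; exact h4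
  have hβ0 : β ≠ 0 := by rw [hβ, polar_comm]; exact h3
  have hxx' : polar Q x' x = 0 := by rw [polar_comm]; exact hxx
  have k1 : ((u (-α), S Q x y) : SpecialLinearGroup (Fin 2) F × ↥(E Q)) ∈ plD Q x x' := by
    constructor
    · change ap (S Q x y) x = (u (-α)).1 0 0 • x + (u (-α)).1 1 0 • x'
      rw [S_fix hx hxy (polar_self_of_sing hx) (by rw [polar_comm]; exact hxy), coe_u]
      simp
    · change ap (S Q x y) x' = (u (-α)).1 0 1 • x + (u (-α)).1 1 1 • x'
      rw [S_ap hx hxy, hxx, coe_u, ← hα]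
      simp
      module
  have k2 : ((l (-β), S Q x' y') : SpecialLinearGroup (Fin 2) F × ↥(E Q)) ∈ plD Q x x' := by
    constructor
    · change ap (S Q x' y') x = (l (-β)).1 0 0 • x + (l (-β)).1 1 0 • x'
      rw [S_ap hx' hxy', hxx', coe_l, ← hβ]
      simp
      module
    · change ap (S Q x' y') x' = (l (-β)).1 0 1 • x + (l (-β)).1 1 1 • x'
      rw [S_fix hx' hxy' (polar_self_of_sing hx') (by rw [polar_comm]; exact hxy'), coe_l]
      simp
  set C : Subgroup (SpecialLinearGroup (Fin 2) F × ↥(E Q)) :=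
    Subgroup.closure {(u (-α), S Q x y), (l (-β), S Q x' y')} with hC
  have hCle : C ≤ plD Q x x' := by
    rw [hC, Subgroup.closure_le]
    rintro _ (rfl | rfl)
    · exact k1
    · exact k2
  obtain ⟨c1, c2⟩ := closure_fst hC
  obtain ⟨A, hA, hA1⟩ := exists_neg_one h2 (H := Subgroup.closure {u (-α), l (-β)}) (a := -α) (c := -β)
    (neg_ne_zero.2 hα0) (neg_ne_zero.2 hβ0) (Subgroup.subset_closure (by simp)) (Subgroup.subset_closure (by simp))
  obtain ⟨q, hq, hq1⟩ := c2 A hA
  have hx0 : x ≠ 0 := by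
    rintro rfl
    apply h3
    rw [polar_zero_left]
  have hqx : ap q.2 x = -x := by
    obtain ⟨h5, -⟩ := hCle hq
    rw [h5, hq1, hA1]
    simp
  refine exists_invol (c1 q hq) (isOfFinOrder_of_finite _) ?_
  have key : ∀ n : ℕ, ap (q.2 ^ n) x = (-1 : F) ^ n • x := by
    intro n
    induction n with
    | zero => rw [pow_zero, ap_one, pow_zero, one_smul]
    | succ n ih =>
      rw [pow_succ', ap_mul, ih, ap_smul, hqx, pow_succ]
      module
  intro n hn h6
  have h7 := key n
  rw [h6, ap_one, hn.neg_one_pow] at h7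
  have h8 : (2 : F) • x = 0 := by
    have : (2 : F) • x = x - (-1 : F) • x := by module
    rw [this, ← h7, sub_self]
  exact hx0 ((smul_eq_zero.1 h8).resolve_left h2)


/-! ### The Hermitian case -/

section herm

open QuadraticAlgebra

/-- the map `x + y ω ↦ x v + y v'` -/
def th (c d : F) (v v' : V) (z : QuadraticAlgebra F c d) : V := z.re • v + z.im • v'

variable {v v' : V} {c d : F}

theorem th_add (z w : QuadraticAlgebra F c d) : th c d v v' (z + w) = th c d v v' z + th c d v v' w := by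
  simp only [th, re_add, im_add]
  module

theorem th_sub (z w : QuadraticAlgebra F c d) : th c d v v' (z - w) = th c d v v' z - th c d v v' w := by
  simp only [th, re_sub, im_sub]
  module

theorem th_smul (a : F) (z : QuadraticAlgebra F c d) : th c d v v' (a • z) = a • th c d v v' z := by
  simp only [th, re_smul, im_smul, smul_eq_mul]
  module

theorem polar_th {w : V} (z : QuadraticAlgebra F c d) (h1 : polar Q w v = 0) (h2 : polar Q w v' = 0) :
    polar Q w (th c d v v' z) = 0 := by
  simp only [th, polar_add_right, polar_smul_right, h1, h2, smul_eq_mul, mul_zero, add_zero]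

variable (hv0 : Q v ≠ 0) (hc : Q v' = -(c * Q v)) (hd : polar Q v v' = d * Q v)

include hc hd in
theorem Q_th (z : QuadraticAlgebra F c d) : Q (th c d v v' z) = Q v * norm z := by
  rw [th, Q_add, QuadraticMap.map_smul, QuadraticMap.map_smul, polar_smul_left, polar_smul_right, hc, hd, norm_def]
  simp only [smul_eq_mul]
  ring

include hc hd in
theorem polar_th_th (z w : QuadraticAlgebra F c d) : polar Q (th c d v v' z) (th c d v v' w) = Q v * trace (z * star w) := by
  have h3 : polar Q v v = 2 * Q v := polar_self' v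
  have h4 : polar Q v' v' = 2 * Q v' := polar_self' v'
  simp only [th, polar_add_left, polar_add_right, polar_smul_left, polar_smul_right, polar_comm Q v' v, h3, h4, hc, hd,
    trace_def, re_mul, im_mul, re_star, im_star, smul_eq_mul]
  ring

/-- the vector of the Hermitian matrix `ξ ξ*`, `ξ = (a, b)` -/
def hh (Q : QuadraticForm F V) (c d : F) (e f v v' : V) (a b : QuadraticAlgebra F c d) : V :=
  norm a • e + (-(Q v) * norm b) • f + th c d v v' (a * star b)

theorem trace_star_mul (a b : QuadraticAlgebra F c d) : trace (a * star b) = trace (star a * b) := by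
  simp only [trace_def, re_mul, im_mul, re_star, im_star]
  ring

theorem norm_add_eq (a b : QuadraticAlgebra F c d) : norm (a + b) = norm a + norm b + trace (a * star b) := by
  simp only [norm_def, trace_def, re_mul, im_mul, re_star, im_star, re_add, im_add]
  ring

variable {e f : V} (hef : Hyp Q e f) (h1 : polar Q e v = 0) (h2 : polar Q e v' = 0) (h3 : polar Q f v = 0)
  (h4 : polar Q f v' = 0)

include hef h1 h2 in
theorem polar_e_hh (a b : QuadraticAlgebra F c d) : polar Q e (hh Q c d e f v v' a b) = -(Q v) * norm b := by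
  rw [hh, polar_add_right, polar_add_right, polar_smul_right, polar_smul_right, polar_self_of_sing hef.left, hef.pair,
    polar_th _ h1 h2]
  simp

include hef h3 h4 in
theorem polar_f_hh (a b : QuadraticAlgebra F c d) : polar Q f (hh Q c d e f v v' a b) = norm a := by
  rw [hh, polar_add_right, polar_add_right, polar_smul_right, polar_smul_right, polar_self_of_sing hef.right,
    hef.pair', polar_th _ h3 h4]
  simp

include hc hd h1 h2 h3 h4 in
theorem polar_th_hh (t a b : QuadraticAlgebra F c d) :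
    polar Q (th c d v v' t) (hh Q c d e f v v' a b) = Q v * trace (t * star (a * star b)) := by
  rw [hh, polar_add_right, polar_add_right, polar_smul_right, polar_smul_right, polar_comm Q _ e, polar_comm Q _ f,
    polar_th _ h1 h2, polar_th _ h3 h4, polar_th_th hc hd]
  simp

include hef h1 h2 h3 h4 hc hd in
theorem S_e_hh (t a b : QuadraticAlgebra F c d) :
    ap (S Q e (th c d v v' t)) (hh Q c d e f v v' a b) = hh Q c d e f v v' (a + (-(Q v)) • (t * b)) b := by
  rw [S_ap hef.left (polar_th _ h1 h2), polar_e_hh hef h1 h2, polar_th_hh hc hd h1 h2 h3 h4, Q_th hc hd]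
  have e1 : norm (a + (-(Q v)) • (t * b)) = norm a + (Q v) ^ 2 * norm t * norm b - Q v * trace (t * star (a * star b)) := by
    simp only [norm_def, trace_def, re_mul, im_mul, re_star, im_star, re_add, im_add, re_smul, im_smul, smul_eq_mul]
    ring
  have e2 : th c d v v' ((a + (-(Q v)) • (t * b)) * star b) = th c d v v' (a * star b) + (-(Q v) * norm b) • th c d v v' t := by
    rw [add_mul, th_add, ← th_smul]
    congr 2
    ext
    · simp only [norm_def, re_mul, im_mul, re_star, im_star, re_smul, im_smul, smul_eq_mul]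
      ring
    · simp only [norm_def, re_mul, im_mul, re_star, im_star, re_smul, im_smul, smul_eq_mul]
      ring
  unfold hh
  rw [e1, e2]
  module

include hef h1 h2 h3 h4 hc hd in
theorem S_f_hh (t a b : QuadraticAlgebra F c d) :
    ap (S Q f (th c d v v' t)) (hh Q c d e f v v' a b) = hh Q c d e f v v' a (b + star t * a) := by
  rw [S_ap hef.right (polar_th _ h3 h4), polar_f_hh hef h3 h4, polar_th_hh hc hd h1 h2 h3 h4, Q_th hc hd]
  have e1 : norm (b + star t * a) = norm b + norm t * norm a + trace (t * star (a * star b)) := by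
    simp only [norm_def, trace_def, re_mul, im_mul, re_star, im_star, re_add, im_add]
    ring
  have e2 : th c d v v' (a * star (b + star t * a)) = th c d v v' (a * star b) + norm a • th c d v v' t := by
    rw [star_add, mul_add, th_add, ← th_smul]
    congr 2
    ext
    · simp only [norm_def, re_mul, im_mul, re_star, im_star, re_smul, im_smul, smul_eq_mul]
      ring
    · simp only [norm_def, re_mul, im_mul, re_star, im_star, re_smul, im_smul, smul_eq_mul]
      ring
  unfold hh
  rw [e1, e2]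
  module


/-- pairs of a matrix and an element acting by it -/
def hD (Q : QuadraticForm F V) (c d : F) (e f v v' : V) :
    Subgroup (SpecialLinearGroup (Fin 2) (QuadraticAlgebra F c d) × ↥(E Q)) where
  carrier := {p | ∀ a b, ap p.2 (hh Q c d e f v v' a b) =
    hh Q c d e f v v' (p.1.1 0 0 * a + p.1.1 0 1 * b) (p.1.1 1 0 * a + p.1.1 1 1 * b)}
  one_mem' := by
    intro a b
    change ap 1 _ = hh Q c d e f v v' ((1 : Matrix (Fin 2) (Fin 2) (QuadraticAlgebra F c d)) 0 0 * a +
      (1 : Matrix (Fin 2) (Fin 2) (QuadraticAlgebra F c d)) 0 1 * b) ((1 : Matrix (Fin 2) (Fin 2) (QuadraticAlgebra F c d)) 1 0 * a +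
      (1 : Matrix (Fin 2) (Fin 2) (QuadraticAlgebra F c d)) 1 1 * b)
    rw [ap_one]
    simp
  mul_mem' := by
    rintro ⟨A, g⟩ ⟨B, h⟩ h1 h2 a b
    have e : ∀ i j, (A * B).1 i j = A.1 i 0 * B.1 0 j + A.1 i 1 * B.1 1 j := fun i j => by
      change (A.1 * B.1) i j = _
      rw [Matrix.mul_apply, Fin.sum_univ_two]
    have h2' := h2 a b
    simp only at h2'
    change ap (g * h) _ = hh Q c d _ _ _ _ ((A * B).1 0 0 * a + (A * B).1 0 1 * b) ((A * B).1 1 0 * a + (A * B).1 1 1 * b)
    rw [ap_mul, h2']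
    have h1' := h1 (B.1 0 0 * a + B.1 0 1 * b) (B.1 1 0 * a + B.1 1 1 * b)
    simp only at h1'
    rw [h1', e, e, e, e]
    congr 1 <;> ring
  inv_mem' := by
    rintro ⟨A, g⟩ h1 a b
    have hd : A.1 0 0 * A.1 1 1 - A.1 0 1 * A.1 1 0 = 1 := by
      have := A.2
      rwa [Matrix.det_fin_two] at this
    have e : (A⁻¹).1 = !![A.1 1 1, -A.1 0 1; -A.1 1 0, A.1 0 0] := by
      rw [Matrix.SpecialLinearGroup.SL2_inv_expl]
      rfl
    change ap g⁻¹ _ = hh Q c d _ _ _ _ ((A⁻¹).1 0 0 * a + (A⁻¹).1 0 1 * b) ((A⁻¹).1 1 0 * a + (A⁻¹).1 1 1 * b)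
    apply ap_inv_of
    have h1' := h1 ((A⁻¹).1 0 0 * a + (A⁻¹).1 0 1 * b) ((A⁻¹).1 1 0 * a + (A⁻¹).1 1 1 * b)
    simp only at h1'
    rw [h1', e]
    simp only [Matrix.of_apply, Matrix.cons_val', Matrix.cons_val_zero, Matrix.cons_val_one, Matrix.cons_val_fin_one]
    congr 1
    · linear_combination a * hd
    · linear_combination b * hd

/-- upper and lower unipotent matrices over a commutative ring -/
def uR {R : Type*} [CommRing R] (t : R) : SpecialLinearGroup (Fin 2) R := ⟨!![1, t; 0, 1], by simp⟩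

def lR {R : Type*} [CommRing R] (t : R) : SpecialLinearGroup (Fin 2) R := ⟨!![1, 0; t, 1], by simp⟩

include hef h1 h2 h3 h4 hc hd in
theorem uR_mem (t : QuadraticAlgebra F c d) :
    ((uR ((-(Q v)) • t), S Q e (th c d v v' t)) :
      SpecialLinearGroup (Fin 2) (QuadraticAlgebra F c d) × ↥(E Q)) ∈ hD Q c d e f v v' := by
  intro a b
  change ap (S Q e (th c d v v' t)) _ = hh Q c d _ _ _ _ ((uR ((-(Q v)) • t)).1 0 0 * a + (uR ((-(Q v)) • t)).1 0 1 * b)
    ((uR ((-(Q v)) • t)).1 1 0 * a + (uR ((-(Q v)) • t)).1 1 1 * b)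
  rw [S_e_hh hc hd hef h1 h2 h3 h4]
  congr 1
  · simp [uR]
  · simp [uR]

include hef h1 h2 h3 h4 hc hd in
theorem lR_mem (t : QuadraticAlgebra F c d) :
    ((lR (star t), S Q f (th c d v v' t)) :
      SpecialLinearGroup (Fin 2) (QuadraticAlgebra F c d) × ↥(E Q)) ∈ hD Q c d e f v v' := by
  intro a b
  change ap (S Q f (th c d v v' t)) _ = hh Q c d _ _ _ _ ((lR (star t)).1 0 0 * a + (lR (star t)).1 0 1 * b)
    ((lR (star t)).1 1 0 * a + (lR (star t)).1 1 1 * b)
  rw [S_f_hh hc hd hef h1 h2 h3 h4]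
  congr 1
  · simp [lR]
  · simp [lR]
    ring

include hv0 hc hd in
/-- an element which maps to zero under `th` maps to zero in every field -/
theorem map_eq_zero_of_th {K : Type*} [Field K] (χ : QuadraticAlgebra F c d →+* K) {z : QuadraticAlgebra F c d}
    (hz : th c d v v' z = 0) : χ z = 0 := by
  have hsq : z * z = 0 ∨ z = 0 := by
    by_cases hi : z.im = 0
    · right
      have h5 : z.re • v = 0 := by
        have : th c d v v' z = z.re • v + z.im • v' := rfl
        rw [this, hi, zero_smul, add_zero] at hz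
        exact hz
      have h6 : v ≠ 0 := by
        rintro rfl
        exact hv0 (QuadraticMap.map_zero Q)
      have h7 : z.re = 0 := (smul_eq_zero.1 h5).resolve_right h6
      ext
      · rw [h7]; rfl
      · rw [hi]; rfl
    · left
      set g : F := -(z.re / z.im) with hg
      have h5 : v' = g • v := by
        have h6 : z.re • v + z.im • v' = 0 := hz
        have h7 : z.im • v' = -(z.re • v) := eq_neg_of_add_eq_zero_right h6
        have h8 : v' = (z.im)⁻¹ • (z.im • v') := by rw [smul_smul, inv_mul_cancel₀ hi, one_smul]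
        rw [h8, h7, hg, smul_neg, smul_smul, neg_smul]
        congr 2
        field_simp
      have h6 : c = -(g ^ 2) := by
        have : Q v' = g ^ 2 * Q v := by rw [h5, QuadraticMap.map_smul]; simp only [smul_eq_mul]; ring
        rw [this] at hc
        clear_value g
        have h7 : (c + g ^ 2) * Q v = 0 := by rw [add_mul, hc]; ring
        have h8 := (mul_eq_zero.1 h7).resolve_right hv0
        linear_combination h8
      have h7 : d = 2 * g := by
        have : polar Q v v' = 2 * g * Q v := by rw [h5, polar_smul_right, polar_self' v]; simp only [smul_eq_mul]; ring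
        rw [this] at hd
        have h8 : (d - 2 * g) * Q v = 0 := by linear_combination -hd
        have h9 := (mul_eq_zero.1 h8).resolve_right hv0
        linear_combination h9
      have h8 : z.re = -(g * z.im) := by rw [hg]; field_simp
      have h9 : z.re * z.re + c * z.im * z.im = 0 := by rw [h8]; linear_combination (z.im * z.im) * h6
      have h10 : z.re * z.im + z.im * z.re + d * z.im * z.im = 0 := by rw [h8]; linear_combination (z.im * z.im) * h7
      ext
      · rw [re_mul, re_zero]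
        exact h9
      · rw [im_mul, im_zero]
        exact h10
  rcases hsq with h5 | h5
  · have h6 : χ z * χ z = 0 := by rw [← map_mul, h5, map_zero]
    exact mul_self_eq_zero.1 h6
  · rw [h5, map_zero]

include hv0 hc hd hef h1 h2 h3 h4 in
/-- a matrix which acts trivially -/
theorem not_sq_neg_one (h2' : (2 : F) ≠ 0) {K : Type*} [Field K] (χ : QuadraticAlgebra F c d →+* K)
    {M : SpecialLinearGroup (Fin 2) (QuadraticAlgebra F c d)} (hM : (M, (1 : ↥(E Q))) ∈ hD Q c d e f v v') :
    (SpecialLinearGroup.map χ M * SpecialLinearGroup.map χ M).1 ≠ -1 := by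
  intro hcon
  have key : ∀ a b, hh Q c d e f v v' a b =
      hh Q c d e f v v' (M.1 0 0 * a + M.1 0 1 * b) (M.1 1 0 * a + M.1 1 1 * b) := fun a b => by
    have := hM a b
    simp only [ap_one] at this
    exact this
  have kn1 : ∀ a b, QuadraticAlgebra.norm a = QuadraticAlgebra.norm (M.1 0 0 * a + M.1 0 1 * b) := fun a b => by
    have := congrArg (polar Q f) (key a b)
    rwa [polar_f_hh hef h3 h4, polar_f_hh hef h3 h4] at this
  have kn2 : ∀ a b, QuadraticAlgebra.norm b = QuadraticAlgebra.norm (M.1 1 0 * a + M.1 1 1 * b) := fun a b => by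
    have := congrArg (polar Q e) (key a b)
    rw [polar_e_hh hef h1 h2, polar_e_hh hef h1 h2] at this
    exact mul_left_cancel₀ (neg_ne_zero.2 hv0) this
  have kt : ∀ a b, th c d v v' (a * star b) =
      th c d v v' ((M.1 0 0 * a + M.1 0 1 * b) * star (M.1 1 0 * a + M.1 1 1 * b)) := fun a b => by
    have := key a b
    rw [hh, hh, ← kn1, ← kn2] at this
    exact add_left_cancel this
  set p' := M.1 0 0 with hp'
  set q' := M.1 0 1 with hq'
  set r' := M.1 1 0 with hr'
  set s' := M.1 1 1 with hs'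
  have n1 : s' * star s' = 1 := by
    have h5 := kn2 0 1
    rw [mul_zero, zero_add, mul_one, QuadraticAlgebra.norm_one] at h5
    rw [← algebraMap_norm_eq_mul_star, ← h5, map_one]
  have t1 : χ (p' * star r') = 0 := by
    have h5 := kt 1 0
    rw [star_zero, mul_zero, mul_one, mul_zero, add_zero, mul_one, mul_zero, add_zero] at h5
    exact map_eq_zero_of_th hv0 hc hd χ (by rw [← h5]; simp [th])
  have t2 : χ (q' * star s') = 0 := by
    have h5 := kt 0 1
    rw [zero_mul, mul_zero, zero_add, mul_one, mul_zero, zero_add, mul_one] at h5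
    exact map_eq_zero_of_th hv0 hc hd χ (by rw [← h5]; simp [th])
  have t3 : χ ((p' + q') * star (r' + s') - 1) = 0 := by
    have h5 := kt 1 1
    rw [star_one, mul_one, mul_one, mul_one, mul_one, mul_one] at h5
    exact map_eq_zero_of_th hv0 hc hd χ (by rw [th_sub, ← h5, sub_self])
  have c1 : χ s' * χ (star s') = 1 := by rw [← map_mul, n1, map_one]
  have c2 : χ q' = 0 := by
    rw [map_mul] at t2
    refine (mul_eq_zero.1 t2).resolve_right ?_
    intro h5
    rw [h5, mul_zero] at c1
    exact zero_ne_one c1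
  have hdet : p' * s' - q' * r' = 1 := by
    have := M.2
    rwa [Matrix.det_fin_two] at this
  have c3 : χ p' * χ s' = 1 := by
    have h5 := congrArg χ hdet
    rw [map_sub, map_mul, map_mul, c2, zero_mul, sub_zero, map_one] at h5
    exact h5
  have c4 : χ (star r') = 0 := by
    rw [map_mul] at t1
    refine (mul_eq_zero.1 t1).resolve_left ?_
    intro h5
    rw [h5, zero_mul] at c3
    exact zero_ne_one c3
  have c5 : χ p' * χ (star s') = 1 := by
    rw [map_sub, map_mul, map_add, star_add, map_add, c2, c4, map_one] at t3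
    linear_combination t3
  have c6 : χ p' = χ s' := by
    have h5 : χ (star s') ≠ 0 := by
      intro h6
      rw [h6, mul_zero] at c1
      exact zero_ne_one c1
    exact mul_right_cancel₀ h5 (c5.trans c1.symm)
  have c7 : χ p' * χ p' = 1 := by
    nth_rewrite 2 [c6]
    exact c3
  have c8 : (SpecialLinearGroup.map χ M * SpecialLinearGroup.map χ M).1 0 0 = χ p' * χ p' + χ q' * χ r' := by
    change ((SpecialLinearGroup.map χ M).1 * (SpecialLinearGroup.map χ M).1) 0 0 = _
    rw [Matrix.mul_apply, Fin.sum_univ_two]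
    simp [hp', hq', hr']
  rw [hcon, c7, c2, zero_mul, add_zero] at c8
  have c9 : (-1 : K) = 1 := by simpa using c8
  have c10 : χ (algebraMap F _ 2) = 0 := by
    rw [map_ofNat, map_ofNat]
    linear_combination -c9
  have c11 : (χ.comp (algebraMap F (QuadraticAlgebra F c d))) 2 = 0 := c10
  exact h2' ((map_eq_zero _).1 c11)


end herm

/-! ### Two short elements -/

theorem map_uR {R K : Type*} [CommRing R] [Field K] (χ : R →+* K) (t : R) : SpecialLinearGroup.map χ (uR t) = u (χ t) := by
  apply Subtype.ext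
  change (!![1, t; 0, 1] : Matrix (Fin 2) (Fin 2) R).map χ = !![1, χ t; 0, 1]
  ext i j
  fin_cases i <;> fin_cases j <;> simp

theorem map_lR {R K : Type*} [CommRing R] [Field K] (χ : R →+* K) (t : R) : SpecialLinearGroup.map χ (lR t) = l (χ t) := by
  apply Subtype.ext
  change (!![1, 0; t, 1] : Matrix (Fin 2) (Fin 2) R).map χ = !![1, 0; χ t, 1]
  ext i j
  fin_cases i <;> fin_cases j <;> simp

theorem pair_short [Finite F] [Finite V] (h2 : (2 : F) ≠ 0) {e f v v' : V} (hef : Hyp Q e f) (h1 : polar Q e v = 0)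
    (h1' : polar Q e v' = 0) (h3 : polar Q f v = 0) (h4 : polar Q f v' = 0) (hv : Q v ≠ 0) (hv' : Q v' ≠ 0) :
    ∃ z ∈ (Subgroup.closure {S Q e v, S Q f v'} : Subgroup ↥(E Q)), z * z = 1 ∧ z ≠ 1 := by
  have hfE : Finite ↥(E Q) := finite_E
  set c : F := -(Q v' / Q v) with hcdef
  set d : F := polar Q v v' / Q v with hddef
  have hc : Q v' = -(c * Q v) := by rw [hcdef]; field_simp
  have hd : polar Q v v' = d * Q v := by rw [hddef]; field_simp
  have hc0 : c ≠ 0 := by
    intro h5
    rw [h5] at hc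
    apply hv'
    rw [hc]; ring
  let ω : QuadraticAlgebra F c d := ⟨0, 1⟩
  have t1 : th c d v v' 1 = v := by
    have r1 : (1 : QuadraticAlgebra F c d).re = 1 := rfl
    have r2 : (1 : QuadraticAlgebra F c d).im = 0 := rfl
    rw [th, r1, r2, one_smul, zero_smul, add_zero]
  have t2 : th c d v v' ω = v' := by simp [th, ω]
  have hnt : Nontrivial (QuadraticAlgebra F c d) := ⟨⟨0, 1, fun h => by
    have : (0 : F) = 1 := congrArg QuadraticAlgebra.re h
    exact zero_ne_one this⟩⟩
  obtain ⟨m, hm⟩ := Ideal.exists_maximal (QuadraticAlgebra F c d)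
  let _ : Field (QuadraticAlgebra F c d ⧸ m) := Ideal.Quotient.field m
  let χ : QuadraticAlgebra F c d →+* (QuadraticAlgebra F c d ⧸ m) := Ideal.Quotient.mk m
  have hfR : Finite (QuadraticAlgebra F c d) := Finite.of_equiv _ (QuadraticAlgebra.equivProd c d).symm
  have hfK : Finite (QuadraticAlgebra F c d ⧸ m) := Finite.of_surjective χ Ideal.Quotient.mk_surjective
  have hmap : ∀ a : F, a ≠ 0 → χ (algebraMap F _ a) ≠ 0 := by
    intro a ha h5
    have h6 : (χ.comp (algebraMap F (QuadraticAlgebra F c d))) a = 0 := h5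
    exact ha ((map_eq_zero _).1 h6)
  have h2K : (2 : QuadraticAlgebra F c d ⧸ m) ≠ 0 := by
    have h5 := hmap 2 h2
    rwa [map_ofNat, map_ofNat] at h5
  have ha : χ ((-(Q v)) • 1) ≠ 0 := by
    rw [← Algebra.algebraMap_eq_smul_one]
    exact hmap _ (neg_ne_zero.2 hv)
  have hω : χ (star ω) ≠ 0 := by
    intro h5
    have h6 : ω * star ω = algebraMap F _ (-c) := by
      rw [← QuadraticAlgebra.algebraMap_norm_eq_mul_star]
      congr 1
      simp [QuadraticAlgebra.norm_def, ω]
    have h7 := congrArg χ h6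
    rw [map_mul, h5, mul_zero] at h7
    exact hmap _ (neg_ne_zero.2 hc0) h7.symm
  have k1 := uR_mem hc hd hef h1 h1' h3 h4 1
  have k2 := lR_mem hc hd hef h1 h1' h3 h4 ω
  rw [t1] at k1
  rw [t2] at k2
  set M1 := uR ((-(Q v)) • (1 : QuadraticAlgebra F c d)) with hM1
  set M2 := lR (star ω) with hM2
  set C : Subgroup (SpecialLinearGroup (Fin 2) (QuadraticAlgebra F c d) × ↥(E Q)) :=
    Subgroup.closure {(M1, S Q e v), (M2, S Q f v')} with hC
  have hCle : C ≤ hD Q c d e f v v' := by
    rw [hC, Subgroup.closure_le]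
    rintro _ (rfl | rfl)
    · exact k1
    · exact k2
  obtain ⟨c1, c2⟩ := closure_fst hC
  obtain ⟨A, hA, hA1⟩ := exists_sq_neg_one h2K
    (H := (Subgroup.closure {M1, M2}).map (SpecialLinearGroup.map χ)) ha hω
    ⟨M1, Subgroup.subset_closure (by simp), map_uR χ _⟩ ⟨M2, Subgroup.subset_closure (by simp), map_lR χ _⟩
  obtain ⟨B, hB, rfl⟩ := hA
  obtain ⟨q, hq, rfl⟩ := c2 B hB
  refine exists_invol (c1 q hq) (isOfFinOrder_of_finite _) ?_
  intro n hn h5
  have h6 : q ^ n ∈ hD Q c d e f v v' := hCle (C.pow_mem hq n)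
  have h7 : q ^ n = (q.1 ^ n, 1) := Prod.ext rfl h5
  rw [h7] at h6
  apply not_sq_neg_one hv hc hd hef h1 h1' h3 h4 h2 χ h6
  rw [map_pow]
  have h8 : ∀ k : ℕ, ((SpecialLinearGroup.map χ q.1) ^ k * (SpecialLinearGroup.map χ q.1) ^ k).1 =
      (-1 : Matrix (Fin 2) (Fin 2) (QuadraticAlgebra F c d ⧸ m)) ^ k := by
    intro k
    have h9 : (SpecialLinearGroup.map χ q.1) ^ k * (SpecialLinearGroup.map χ q.1) ^ k =
        (SpecialLinearGroup.map χ q.1 * SpecialLinearGroup.map χ q.1) ^ k := by
      rw [← pow_add, ← two_mul, pow_mul, pow_two]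
    rw [h9, ← hA1]
    rfl
  rw [h8, hn.neg_one_pow]

theorem S_sub_smul {x y : V} (hx : Q x = 0) (hxy : polar Q x y = 0) (a : F) : S Q x (y - a • x) = S Q x y := by
  have h3 : polar Q x ((-a) • x) = 0 := by rw [polar_smul_right, polar_self_of_sing hx, smul_zero]
  rw [sub_eq_add_neg, ← neg_smul, S_add hx hxy h3, S_self_smul _ hx, mul_one]

/-- **Two Siegel elements generate a `p`-group or a group of even order.** -/
theorem pair [Finite F] [Finite V] (h2 : (2 : F) ≠ 0) {x y x' y' : V} (hx : Q x = 0) (hxy : polar Q x y = 0)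
    (hx' : Q x' = 0) (hxy' : polar Q x' y' = 0) :
    IsPGroup p (Subgroup.closure {S Q x y, S Q x' y'} : Subgroup ↥(E Q)) ∨
      ∃ z ∈ (Subgroup.closure {S Q x y, S Q x' y'} : Subgroup ↥(E Q)), z * z = 1 ∧ z ≠ 1 := by
  by_cases hμ : polar Q x x' = 0
  · exact pair_orth h2 hx hxy hx' hxy' hμ
  set μ := polar Q x x' with hμdef
  set f := μ⁻¹ • x' with hf
  have hQf : Q f = 0 := by rw [hf, QuadraticMap.map_smul, hx', smul_zero]
  have hxf : polar Q x f = 1 := by rw [hf, polar_smul_right, ← hμdef, smul_eq_mul, inv_mul_cancel₀ hμ]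
  have hef : Hyp Q x f := ⟨hx, hQf, hxf⟩
  have hfy : polar Q f (μ • y') = 0 := by rw [hf, polar_smul_left, polar_smul_right, hxy', smul_zero, smul_zero]
  have hS' : S Q x' y' = S Q f (μ • y') := by
    rw [hf, S_smul _ hx' (by rw [polar_smul_right, hxy', smul_zero]), smul_smul, inv_mul_cancel₀ hμ, one_smul]
  set v := y - polar Q f y • x with hv
  set v' := μ • y' - polar Q x (μ • y') • f with hv'
  have e1 : S Q x y = S Q x v := (S_sub_smul hx hxy _).symm
  have e2 : S Q x' y' = S Q f v' := by rw [hS']; exact (S_sub_smul hQf hfy _).symm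
  have p1 : polar Q x v = 0 := by rw [hv, polar_sub_right, hxy, polar_smul_right, polar_self_of_sing hx]; simp
  have p2 : polar Q f v = 0 := by rw [hv, polar_sub_right, polar_smul_right, hef.pair']; simp
  have p3 : polar Q x v' = 0 := by rw [hv', polar_sub_right, polar_smul_right (a := polar Q x (μ • y')), hxf]; simp
  have p4 : polar Q f v' = 0 := by
    rw [hv', polar_sub_right, hfy, polar_smul_right, polar_self_of_sing hQf]; simp
  rw [e1, e2]
  by_cases h5 : Q v = 0
  · rw [S_swap hx h5 p1]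
    exact pair_orth h2 h5 (by rw [polar_neg_right, polar_comm, p1, neg_zero]) hQf p4 (by rw [polar_comm]; exact p2)
  by_cases h6 : Q v' = 0
  · rw [S_swap hQf h6 p4]
    exact pair_orth h2 hx p1 h6 (by rw [polar_neg_right, polar_comm, p4, neg_zero]) p3
  · exact Or.inr (pair_short h2 hef p1 p3 p2 p4 h5 h6)

/-- the support -/
theorem closure_supp {x y x' y' : V} (hx : Q x = 0) (hxy : polar Q x y = 0) (hx' : Q x' = 0) (hxy' : polar Q x' y' = 0)
    {g : ↥(E Q)} (hg : g ∈ (Subgroup.closure {S Q x y, S Q x' y'} : Subgroup ↥(E Q))) (w : V) :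
    ap g w - w ∈ Submodule.span F (Set.range ![x, y, x', y']) := by
  set W := Submodule.span F (Set.range ![x, y, x', y']) with hW
  have hxW : x ∈ W := Submodule.subset_span ⟨0, rfl⟩
  have hyW : y ∈ W := Submodule.subset_span ⟨1, rfl⟩
  have hxW' : x' ∈ W := Submodule.subset_span ⟨2, rfl⟩
  have hyW' : y' ∈ W := Submodule.subset_span ⟨3, rfl⟩
  let D : Subgroup ↥(E Q) :=
    { carrier := {g | ∀ w, ap g w - w ∈ W}
      one_mem' := fun w => by rw [ap_one, sub_self]; exact W.zero_mem
      mul_mem' := fun {a b} ha hb w => by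
        have h1 : ap (a * b) w - w = (ap a (ap b w) - ap b w) + (ap b w - w) := by rw [ap_mul]; abel
        rw [h1]
        exact W.add_mem (ha _) (hb _)
      inv_mem' := fun {a} ha w => by
        have h1 : ap a⁻¹ w - w = -(ap a (ap a⁻¹ w) - ap a⁻¹ w) := by rw [ap_ap_inv]; abel
        rw [h1]
        exact W.neg_mem (ha _) }
  have hle : (Subgroup.closure {S Q x y, S Q x' y'} : Subgroup ↥(E Q)) ≤ D := by
    rw [Subgroup.closure_le]
    rintro _ (rfl | rfl)
    · intro w
      have h1 : ap (S Q x y) w - w = polar Q x w • y - polar Q y w • x - (Q y * polar Q x w) • x := by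
        rw [S_ap hx hxy]; abel
      rw [h1]
      exact W.sub_mem (W.sub_mem (W.smul_mem _ hyW) (W.smul_mem _ hxW)) (W.smul_mem _ hxW)
    · intro w
      have h1 : ap (S Q x' y') w - w = polar Q x' w • y' - polar Q y' w • x' - (Q y' * polar Q x' w) • x' := by
        rw [S_ap hx' hxy']; abel
      rw [h1]
      exact W.sub_mem (W.sub_mem (W.smul_mem _ hyW') (W.smul_mem _ hxW')) (W.smul_mem _ hxW')
  exact hle hg w

/-- no involutions of rank at most 4 -/
def NS (Q : QuadraticForm F V) (X : Subgroup ↥(E Q)) : Prop :=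
  ∀ z ∈ X, z * z = 1 → (∃ W : Submodule F V, Module.finrank F W ≤ 4 ∧ ∀ v, ap z v - v ∈ W) → z = 1

theorem pair_NS [Finite F] [Finite V] (h2 : (2 : F) ≠ 0) {X : Subgroup ↥(E Q)} (hX : NS Q X) {x y x' y' : V}
    (hx : Q x = 0) (hxy : polar Q x y = 0) (hx' : Q x' = 0) (hxy' : polar Q x' y' = 0) (h1 : S Q x y ∈ X)
    (h3 : S Q x' y' ∈ X) : IsPGroup p (Subgroup.closure {S Q x y, S Q x' y'} : Subgroup ↥(E Q)) := by
  rcases pair (p := p) h2 hx hxy hx' hxy' with h4 | ⟨z, hz, hz2, hz1⟩
  · exact h4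
  · exfalso
    apply hz1
    refine hX z ?_ hz2 ⟨Submodule.span F (Set.range ![x, y, x', y']), ?_, closure_supp hx hxy hx' hxy' hz⟩
    · have : (Subgroup.closure {S Q x y, S Q x' y'} : Subgroup ↥(E Q)) ≤ X := by
        rw [Subgroup.closure_le]
        rintro _ (rfl | rfl)
        · exact h1
        · exact h3
      exact this hz
    · exact (finrank_range_le_card _).trans (by simp)

/-- **(Baer-Suzuki)** all Siegel elements of `X` lie in a `p`-subgroup of `X` -/
theorem exists_R' [Finite F] [Finite V] (h2 : (2 : F) ≠ 0) {X : Subgroup ↥(E Q)}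
    (hX : NS Q X) : ∃ R : Subgroup ↥(E Q), R ≤ X ∧ IsPGroup p R ∧
      (∀ g ∈ X, ∀ r ∈ R, g * r * g⁻¹ ∈ R) ∧ ∀ x y : V, Q x = 0 → polar Q x y = 0 →
      S Q x y ∈ X → S Q x y ∈ R := by
  have hfinE : Finite ↥(E Q) := finite_E
  let K : Set ↥X := {z | ∃ x y : V, Q x = 0 ∧ polar Q x y = 0 ∧ (z : ↥(E Q)) = S Q x y}
  have hK : ∀ g : ↥X, ∀ z ∈ K, g * z * g⁻¹ ∈ K := by
    rintro g z ⟨x, y, hx, hxy, hz⟩
    refine ⟨ap g.1 x, ap g.1 y, by rw [Q_ap, hx], by rw [polar_ap, hxy], ?_⟩
    rw [← S_conj, ← hz]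
    rfl
  have hpair : ∀ z ∈ K, ∀ z' ∈ K, IsPGroup p (Subgroup.closure {z, z'} : Subgroup ↥X) := by
    rintro z ⟨x, y, hx, hxy, hz⟩ z' ⟨x', y', hx', hxy', hz'⟩
    have h3 := pair_NS (p := p) h2 hX hx hxy hx' hxy' (hz ▸ z.2) (hz' ▸ z'.2)
    have h4 : (Subgroup.closure {z, z'} : Subgroup ↥X).map X.subtype =
        Subgroup.closure {S Q x y, S Q x' y'} := by
      rw [MonoidHom.map_closure, Set.image_pair]
      congr 1
      rw [← hz, ← hz']
      rfl
    rintro ⟨a, ha⟩
    have h5 : X.subtype a ∈ (Subgroup.closure {z, z'} : Subgroup ↥X).map X.subtype := ⟨a, ha, rfl⟩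
    rw [h4] at h5
    obtain ⟨n, hn⟩ := h3 ⟨_, h5⟩
    refine ⟨n, Subtype.ext (Subtype.ext ?_)⟩
    have := congrArg Subtype.val hn
    exact this
  have hR := Cfsg.Agent.Involutions.BaerSuzuki.baer_suzuki_set hK hpair
  have hnorm : ∀ (g : ↥X), ∀ r ∈ Subgroup.closure K, g * r * g⁻¹ ∈ Subgroup.closure K := by
    intro g r hr
    induction hr using Subgroup.closure_induction with
    | mem x hx => exact Subgroup.subset_closure (hK g x hx)
    | one => rw [mul_one, mul_inv_cancel]; exact Subgroup.one_mem _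
    | mul x y _ _ hx hy =>
      have : g * (x * y) * g⁻¹ = g * x * g⁻¹ * (g * y * g⁻¹) := by group
      rw [this]
      exact Subgroup.mul_mem _ hx hy
    | inv x _ hx =>
      have : g * x⁻¹ * g⁻¹ = (g * x * g⁻¹)⁻¹ := by group
      rw [this]
      exact Subgroup.inv_mem _ hx
  refine ⟨(Subgroup.closure K).map X.subtype, ?_, hR.map X.subtype, ?_, ?_⟩
  · rintro _ ⟨r, -, rfl⟩
    exact r.2
  · rintro g hg _ ⟨r, hr, rfl⟩
    exact ⟨_, hnorm ⟨g, hg⟩ r hr, rfl⟩
  · intro x y hx hxy hS
    exact ⟨⟨S Q x y, hS⟩, Subgroup.subset_closure ⟨x, y, hx, hxy, rfl⟩, rfl⟩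

omit [Fact p.Prime] [CharP F p] in
/-- a Siegel element which is not 1 and fixes `c`: the centre is orthogonal to `c` -/
theorem polar_center {x y c : V} (hx : Q x = 0) (hxy : polar Q x y = 0)
    (hS : S Q x y ≠ 1) (hc : ap (S Q x y) c = c) : polar Q x c = 0 := by
  rw [S_ap hx hxy] at hc
  by_contra hcon
  apply hS
  have h4 : polar Q x c • y - polar Q y c • x - (Q y * polar Q x c) • x = 0 := by
    have h5 : c + (polar Q x c • y - polar Q y c • x - (Q y * polar Q x c) • x) = c := by
      rw [← add_sub_assoc, ← add_sub_assoc]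
      exact hc
    exact add_eq_left.1 h5
  have h5 : y = ((polar Q x c)⁻¹ * (polar Q y c + Q y * polar Q x c)) • x := by
    have h6 : polar Q x c • y = (polar Q y c + Q y * polar Q x c) • x := by
      rw [add_smul]
      have := sub_eq_zero.1 h4
      rw [sub_eq_iff_eq_add] at this
      rw [this, add_comm]
    rw [mul_smul, ← h6, smul_smul, inv_mul_cancel₀ hcon, one_smul]
  rw [h5]
  exact S_self_smul _ hx

end Cfsg.Agent.H170.IF
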