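import Cfsg.Agent.H170.IF.Pair
import Cfsg.Agent.H786.IF.Amb

/-!
# S5719, orthogonal groups, `q` odd: subgroups without small involutions (helper170)

`NS Q X` : `X` contains no involution `z` with `dim (z - 1) V ≤ 4`.
* `psi_rel` : `W` a nondegenerate subspace, `K ≤ E Q` leaves `W` invariant and contains all Siegel elements of `W`: if
  `c ≤ |K ∩ Fix W : Y ∩ ..|` for all `Y` with `NS Q Y`, then `q ^ psi (dim W) * c ≤ |K : X ∩ K|` for all `X` with `NS Q X`;
* `psi_index` : `q ^ psi (dim U) ≤ |EW Q U : X ∩ EW Q U|`.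
`psi 3 = 1, psi 4 = 2, psi 5 = 4, psi 6 = 6, psi 7 = 9, psi 8 = 12, psi 9 = 16, psi 10 = 20`.
-/

set_option autoImplicit false
set_option linter.unusedSectionVars false
set_option linter.unusedVariables false

namespace Cfsg.Agent.H170.IF

open QuadraticMap Cfsg.Agent.LieClassical Cfsg.Agent.LieClassical.OrthCore Cfsg.Agent.LieClassical.OrthTrans
  Cfsg.Agent.AutOrth.SemiSim Cfsg.Agent.AutOrth.Gen Cfsg.Agent.H989.Gs.Gen Cfsg.Agent.H989.Fx
open Cfsg.Agent.H786.IF (Nd Fix mem_Fix QW card_QW exists_pair exists_fixed_vec abs_rel odd_q finrank_inf_Dp nd_inf_Dp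
  S_ne_one relIndex_mono)

variable {F V : Type*} [Field F] [AddCommGroup V] [Module F V] {Q : QuadraticForm F V}

/-- the small involutions -/
def Small (Q : QuadraticForm F V) (z : ↥(E Q)) : Prop :=
  z * z = 1 ∧ z ≠ 1 ∧ ∃ W : Submodule F V, Module.finrank F W ≤ 4 ∧ ∀ v, ap z v - v ∈ W

theorem Small.conj [FiniteDimensional F V] {z : ↥(E Q)} (hz : Small Q z) (g : ↥(E Q)) : Small Q (g * z * g⁻¹) := by
  obtain ⟨h1, h2, W, hW, h3⟩ := hz
  refine ⟨?_, ?_, W.map (g : V ≃ₗ[F] V).toLinearMap, ?_, ?_⟩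
  · calc g * z * g⁻¹ * (g * z * g⁻¹) = g * (z * z) * g⁻¹ := by group
      _ = 1 := by rw [h1, mul_one, mul_inv_cancel]
  · intro h4
    apply h2
    calc z = g⁻¹ * (g * z * g⁻¹) * g := by group
      _ = 1 := by rw [h4, mul_one, inv_mul_cancel]
  · exact (Submodule.finrank_map_le _ _).trans hW
  · intro v
    refine ⟨ap z (ap g⁻¹ v) - ap g⁻¹ v, h3 _, ?_⟩
    change ap g (ap z (ap g⁻¹ v) - ap g⁻¹ v) = _
    rw [ap_sub, ap_ap_inv, ap_mul, ap_mul]

theorem NS_iff {X : Subgroup ↥(E Q)} : NS Q X ↔ ∀ z ∈ X, ¬ Small Q z := by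
  constructor
  · rintro h z hz ⟨h1, h2, h3⟩
    exact h2 (h z hz h1 h3)
  · intro h z hz h1 h3
    by_contra h2
    exact h z hz ⟨h1, h2, h3⟩

theorem NS.mono {X Y : Subgroup ↥(E Q)} (hX : NS Q X) (h : Y ≤ X) : NS Q Y := fun z hz => hX z (h hz)

/-- **one step** -/
theorem step' [Finite F] [FiniteDimensional F V] (h2 : (2 : F) ≠ 0) (K : Subgroup ↥(E Q)) (W : Submodule F V)
    (hW : Nd Q W) (hd : 3 ≤ Module.finrank F W) (hK1 : ∀ g ∈ K, ∀ w ∈ W, ap g w ∈ W)
    (hK2 : ∀ u ∈ W, ∀ w ∈ W, Q u = 0 → polar Q u w = 0 → S Q u w ∈ K) (X : Subgroup ↥(E Q)) (hX : NS Q X) :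
    ∃ e ∈ W, ∃ f ∈ W, Hyp Q e f ∧ ∀ c : ℕ,
      (∀ Y : Subgroup ↥(E Q), NS Q Y → c ≤ Y.relIndex (K ⊓ Fix Q (Submodule.span F {e, f}))) →
      Nat.card F ^ (Module.finrank F W - 2) * c ≤ X.relIndex K := by
  have hfE : Finite ↥(E Q) := Cfsg.Agent.H786.IF.finite_E
  have hfinV : Finite V := Module.finite_of_finite F
  obtain ⟨p, hp⟩ := CharP.exists F
  cases nonempty_fintype F
  have hpp : Fact p.Prime := ⟨CharP.char_is_prime F p⟩
  have hWb : W ≠ ⊥ := by
    rintro rfl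
    rw [finrank_bot] at hd
    omega
  obtain ⟨R, hR1, hR2, -, hR3⟩ := exists_R' (p := p) h2 (X := X ⊓ K) (hX.mono inf_le_left)
  obtain ⟨w₀, hw, hw0, hfix⟩ := exists_fixed_vec hR2 hWb (fun g hg w hw => hK1 g (hR1 hg).2 w hw)
  obtain ⟨e, he, f, hf, h, hew⟩ := exists_pair hW hd hw hw0
  refine ⟨e, he, f, hf, h, fun c hc => ?_⟩
  have hfix' : ∀ g ∈ Fix Q (Submodule.span F {e, f}), ap g e = e ∧ ap g f = f := fun g hg =>
    ⟨hg e (Submodule.subset_span (by simp)), hg f (Submodule.subset_span (by simp))⟩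
  have habs := abs_rel K (K ⊓ Fix Q (Submodule.span F {e, f})) (QW W h) X (by
      rintro _ ⟨w, hw, rfl⟩
      exact hK2 e he w hw.1 h.left hw.2.1) inf_le_left (by
      rw [card_QW he hf h]
      exact (odd_q h2).pow) (by
      rintro g ⟨hgK, hgF⟩ _ ⟨w, hw, rfl⟩
      obtain ⟨h1, h3⟩ := hfix' g hgF
      rw [S_conj, h1]
      refine ⟨ap g w, ⟨hK1 g hgK w hw.1, ?_, ?_⟩, rfl⟩
      · rw [← h1, polar_ap]
        exact hw.2.1
      · rw [← h3, polar_ap]
        exact hw.2.2) {z | Small Q z} (fun z hz => hz.1) (fun g z hz => Small.conj hz g)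
      (fun z hz => NS_iff.1 hX z hz) c (fun Y hY => hc Y (NS_iff.2 fun z hz => hY z hz))
  have hle : Nat.card (X ⊓ QW W h : Subgroup ↥(E Q)) = 1 := by
    rw [Subgroup.card_eq_one, Subgroup.eq_bot_iff_forall]
    rintro g ⟨hgX, w, hw1, rfl⟩
    by_contra hne
    have h5 : S Q e w ∈ X ⊓ K := ⟨hgX, hK2 e he w hw1.1 h.left hw1.2.1⟩
    exact hew (polar_center h.left hw1.2.1 hne (hfix _ (hR3 e w h.left hw1.2.1 h5)))
  rw [card_QW he hf h, hle, one_mul] at habs
  exact habs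

/-- the exponent -/
def psi : ℕ → ℕ
  | 0 => 0
  | 1 => 0
  | 2 => 0
  | (n + 3) => (n + 1) + psi (n + 1)

theorem psi_values : psi 3 = 1 ∧ psi 4 = 2 ∧ psi 5 = 4 ∧ psi 6 = 6 ∧ psi 7 = 9 ∧ psi 8 = 12 ∧ psi 9 = 16 ∧ psi 10 = 20 := by
  refine ⟨rfl, rfl, rfl, rfl, rfl, rfl, rfl, rfl⟩

/-- **PSI, relative form** -/
theorem psi_rel [Finite F] [FiniteDimensional F V] (h2 : (2 : F) ≠ 0) (n : ℕ) : ∀ (K : Subgroup ↥(E Q))
    (W : Submodule F V) (hW : Nd Q W) (hn : Module.finrank F W = n) (hK1 : ∀ g ∈ K, ∀ w ∈ W, ap g w ∈ W)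
    (hK2 : ∀ u ∈ W, ∀ w ∈ W, Q u = 0 → polar Q u w = 0 → S Q u w ∈ K) (c : ℕ)
    (hc : ∀ Y : Subgroup ↥(E Q), NS Q Y → c ≤ Y.relIndex (K ⊓ Fix Q W)) (X : Subgroup ↥(E Q)) (hX : NS Q X),
    Nat.card F ^ psi n * c ≤ X.relIndex K := by
  have hfE : Finite ↥(E Q) := Cfsg.Agent.H786.IF.finite_E
  induction n using Nat.strong_induction_on with
  | _ n ih =>
    intro K W hW hn hK1 hK2 c hc X hX
    rcases Nat.lt_or_ge n 3 with h3 | h3
    · have h0 : psi n = 0 := by interval_cases n <;> rfl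
      rw [h0, pow_zero, one_mul]
      exact (hc X hX).trans (relIndex_mono X inf_le_left)
    · obtain ⟨e, he, f, hf, h, hstep⟩ := step' h2 K W hW (by omega) hK1 hK2 X hX
      obtain ⟨m, rfl⟩ : ∃ m, n = m + 3 := ⟨n - 3, by omega⟩
      have hpsi : psi (m + 3) = (m + 1) + psi (m + 1) := rfl
      have hs := hstep (Nat.card F ^ psi (m + 1) * c) (fun Y hY => ?_)
      · rw [hpsi, pow_add, mul_assoc]
        have e1 : Module.finrank F W - 2 = m + 1 := by omega
        rwa [e1] at hs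
      · have hd' := finrank_inf_Dp he hf h
        have hKf : ∀ g ∈ K ⊓ Fix Q (Submodule.span F {e, f}), ap g e = e ∧ ap g f = f := fun g hg =>
          ⟨hg.2 e (Submodule.subset_span (by simp)), hg.2 f (Submodule.subset_span (by simp))⟩
        refine ih (m + 1) (by omega) (K ⊓ Fix Q (Submodule.span F {e, f})) (W ⊓ Dp Q e f) (nd_inf_Dp hW he hf h)
          (by omega) ?_ ?_ c ?_ Y hY
        · intro g hg w hw
          obtain ⟨h4, h5⟩ := hKf g hg
          refine ⟨hK1 g hg.1 w hw.1, ?_, ?_⟩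
          · rw [← h4, polar_ap]
            exact hw.2.1
          · rw [← h5, polar_ap]
            exact hw.2.2
        · intro u hu w hw hQu huw
          refine ⟨hK2 u hu.1 w hw.1 hQu huw, ?_⟩
          intro v hv
          have h6 : polar Q u v = 0 ∧ polar Q w v = 0 := by
            induction hv using Submodule.span_induction with
            | mem x hx =>
              rcases hx with rfl | rfl
              · exact ⟨by rw [polar_comm]; exact hu.2.1, by rw [polar_comm]; exact hw.2.1⟩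
              · exact ⟨by rw [polar_comm]; exact hu.2.2, by rw [polar_comm]; exact hw.2.2⟩
            | zero => exact ⟨polar_zero_right _ _, polar_zero_right _ _⟩
            | add x y _ _ hx hy =>
              exact ⟨by rw [polar_add_right, hx.1, hy.1, add_zero], by rw [polar_add_right, hx.2, hy.2, add_zero]⟩
            | smul a x _ hx =>
              exact ⟨by rw [polar_smul_right, hx.1, smul_zero], by rw [polar_smul_right, hx.2, smul_zero]⟩
          exact S_fix hQu huw h6.1 h6.2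
        · intro Y' hY'
          refine (hc Y' hY').trans (relIndex_mono Y' ?_)
          rintro g ⟨hgK, hgF⟩
          refine ⟨⟨hgK, ?_⟩, ?_⟩
          · intro v hv
            apply hgF
            have h7 : Submodule.span F {e, f} ≤ W := by
              rw [Submodule.span_le]
              rintro _ (rfl | rfl)
              · exact he
              · exact hf
            exact h7 hv
          · intro v hv
            exact hgF v hv.1

/-- the group generated by the Siegel elements of a subspace -/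
noncomputable def EWs (Q : QuadraticForm F V) (U : Submodule F V) : Subgroup ↥(E Q) :=
  Subgroup.closure {g | ∃ u ∈ U, ∃ w ∈ U, Q u = 0 ∧ polar Q u w = 0 ∧ g = S Q u w}

theorem EWs_map {U : Submodule F V} {g : ↥(E Q)} (hg : g ∈ EWs Q U) : ∀ w ∈ U, ap g w ∈ U := by
  have hS : ∀ u ∈ U, ∀ w ∈ U, Q u = 0 → polar Q u w = 0 → ∀ v ∈ U, ap (S Q u w) v ∈ U := by
    intro u hu w hw hQ h v hv
    rw [S_ap hQ h]
    exact U.sub_mem (U.sub_mem (U.add_mem hv (U.smul_mem _ hw)) (U.smul_mem _ hu)) (U.smul_mem _ hu)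
  induction hg using Subgroup.closure_induction'' with
  | one => intro w hw; rwa [ap_one]
  | mem x hx =>
    obtain ⟨u, hu, w, hw, hQ, h, rfl⟩ := hx
    exact hS u hu w hw hQ h
  | inv_mem x hx =>
    obtain ⟨u, hu, w, hw, hQ, h, rfl⟩ := hx
    rw [S_inv hQ h]
    exact hS u hu (-w) (U.neg_mem hw) hQ (by rw [polar_neg_right, h, neg_zero])
  | mul x y _ _ hx hy =>
    intro w hw
    rw [ap_mul]
    exact hx _ (hy _ hw)

/-- **PSI** -/
theorem psi_index [Finite F] [FiniteDimensional F V] (h2 : (2 : F) ≠ 0) (U : Submodule F V) (hU : Nd Q U)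
    (X : Subgroup ↥(E Q)) (hX : NS Q X) : Nat.card F ^ psi (Module.finrank F U) ≤ X.relIndex (EWs Q U) := by
  have hfE : Finite ↥(E Q) := Cfsg.Agent.H786.IF.finite_E
  have h := psi_rel h2 (Module.finrank F U) (EWs Q U) U hU rfl (fun g hg => EWs_map hg)
    (fun u hu w hw hQ h => Subgroup.subset_closure ⟨u, hu, w, hw, hQ, h, rfl⟩) 1
    (fun Y _ => Nat.pos_of_ne_zero Subgroup.FiniteIndex.index_ne_zero) X hX
  rwa [mul_one] at h

end Cfsg.Agent.H170.IF
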